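import Groth.Agent.EtBrLib.Gm
import Groth.Agent.DivSeqLib.Components
import Groth.Agent.EtAcycLib.Local
import Groth.Agent.SkySumLib.Basic
import Mathlib.AlgebraicGeometry.Morphisms.FlatMono

/-!
# `R^q j_* G_m = 0` for points with vanishing cohomology of `G_m`
-/

set_option autoImplicit false
set_option linter.unusedSectionVars false
set_option linter.style.haveILetI false
set_option backward.isDefEq.respectTransparency false
set_option backward.isDefEq.respectTransparency.types false
set_option synthInstance.maxHeartbeats 400000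
set_option maxHeartbeats 1000000

universe u

open CategoryTheory CategoryTheory.Limits CategoryTheory.Abelian AlgebraicGeometry Opposite
open Groth.Agent.EtShLib EtSliceLib EtTransferLib

noncomputable section

namespace EtBrLib

theorem subsingleton_H_Gm_etale (k : Type u) [Field k] {S : Scheme.{u}} (π : S ⟶ Spec (CommRingCat.of k))
    [AlgebraicGeometry.Etale π] [CompactSpace ↥S] (n : ℕ)
    (h : ∀ (L : Type u) [Field L] [Algebra k L] [FiniteDimensional k L] [Algebra.IsSeparable k L],
      Subsingleton (EtCoh.H (Spec (CommRingCat.of L)) (EtCoh.Gm (Spec (CommRingCat.of L))) n)) :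
    Subsingleton (EtCoh.H S (EtCoh.Gm S) n) := by
  haveI : IsFinite π := isFinite_of_etale_compact π
  haveI : IsAffine S := isAffine_of_isAffineHom π
  let ψ : CommRingCat.of k ⟶ Γ(S, ⊤) := Spec.preimage (S.isoSpec.inv ≫ π)
  have hψ : Spec.map ψ = S.isoSpec.inv ≫ π := Spec.map_preimage _
  letI : Algebra k Γ(S, ⊤) := ψ.hom.toAlgebra
  haveI : Algebra.Etale k Γ(S, ⊤) := by
    haveI : AlgebraicGeometry.Etale (Spec.map ψ) := by rw [hψ]; infer_instance
    exact RingHom.etale_algebraMap.1 ((HasRingHomProperty.Spec_iff (P := @AlgebraicGeometry.Etale)).1 ‹_›)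
  obtain ⟨I, _, L, _, _, E, hsep⟩ := (Algebra.FormallyEtale.iff_exists_algEquiv_prod k Γ(S, ⊤)).1 inferInstance
  haveI : Module.Finite k Γ(S, ⊤) := Algebra.FormallyUnramified.finite_of_free k Γ(S, ⊤)
  haveI : ∀ i, FiniteDimensional k (L i) := fun i =>
    Module.Finite.of_surjective ((Pi.evalAlgHom k L i).comp E.toAlgHom).toLinearMap
      ((Function.surjective_eval i).comp E.surjective)
  haveI := hsep
  -- the pieces
  let q : ∀ i, Spec (CommRingCat.of (L i)) ⟶ S := fun i =>
    Spec.map (CommRingCat.ofHom ((Pi.evalAlgHom k L i).comp E.toAlgHom).toRingHom) ≫ S.isoSpec.inv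
  have hq : ∀ i, q i ≫ π = Spec.map (CommRingCat.ofHom (algebraMap k (L i))) := fun i => by
    rw [Category.assoc, ← hψ, ← Spec.map_comp]
    exact congrArg (fun f => Spec.map (CommRingCat.ofHom f)) ((Pi.evalAlgHom k L i).comp E.toAlgHom).comp_algebraMap
  haveI : ∀ i, AlgebraicGeometry.Etale (q i) := fun i => by
    haveI : AlgebraicGeometry.Etale (q i ≫ π) := by rw [hq]; exact etale_specMap k (L i)
    exact AlgebraicGeometry.Etale.of_comp (q i) π
  haveI : ∀ i, IsClosedImmersion (q i) := fun i => by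
    haveI : IsClosedImmersion (Spec.map (CommRingCat.ofHom ((Pi.evalAlgHom k L i).comp E.toAlgHom).toRingHom)) :=
      IsClosedImmersion.spec_of_surjective _ ((Function.surjective_eval i).comp E.surjective)
    infer_instance
  haveI : ∀ i, IsOpenImmersion (q i) := fun i => IsOpenImmersion.of_flat_of_mono (q i)
  let U : I → S.Opens := fun i => (q i).opensRange
  haveI : ∀ i, PreservesFiniteLimits (EtCoh.pull (U i).ι) := fun i => pullExact _
  haveI : Fintype I := Fintype.ofFinite I
  refine subsingleton_of_forall_eq 0 fun x => DivSeqLib.eq_zero_of_Hpull U (fun y => ?_) (fun i j hij => ?_) _ n x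
    fun i => ?_
  · obtain ⟨⟨i, p⟩, hp⟩ := (PrimeSpectrum.sigmaToPi_bijective L).surjective
      (PrimeSpectrum.comap (E.symm : (Π i, L i) →+* Γ(S, ⊤)) (S.isoSpec.hom y))
    refine ⟨i, p, ?_⟩
    have h1 : PrimeSpectrum.comap ((Pi.evalAlgHom k L i).comp E.toAlgHom).toRingHom p = S.isoSpec.hom y := by
      apply PrimeSpectrum.ext
      ext a
      have h2 := congrArg (fun P => E a ∈ P.asIdeal) hp
      simp only [PrimeSpectrum.comap_asIdeal, Ideal.mem_comap] at h2 ⊢
      show ((Pi.evalAlgHom k L i).comp E.toAlgHom).toRingHom a ∈ p.asIdeal ↔ _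
      refine Iff.trans (Iff.of_eq h2) ?_
      simp
    show S.isoSpec.inv (PrimeSpectrum.comap ((Pi.evalAlgHom k L i).comp E.toAlgHom).toRingHom p) = y
    rw [h1, ← Scheme.Hom.comp_apply, Iso.hom_inv_id]
    rfl
  · rw [Set.disjoint_iff]
    rintro y ⟨⟨a, rfl⟩, ⟨b, hb⟩⟩
    exfalso
    have h1 := S.isoSpec.inv.isOpenEmbedding.injective hb
    classical
    let fi := ((Pi.evalAlgHom k L i).comp E.toAlgHom).toRingHom
    let fj := ((Pi.evalAlgHom k L j).comp E.toAlgHom).toRingHom
    have h2 : (PrimeSpectrum.comap fj b).asIdeal = (PrimeSpectrum.comap fi a).asIdeal :=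
      congrArg PrimeSpectrum.asIdeal h1
    have hja : fj (E.symm (Pi.single i 1)) = 0 := by simp [fj, Ne.symm hij]
    have hia : fi (E.symm (Pi.single i 1)) = 1 := by simp [fi]
    have h4 : E.symm (Pi.single i 1) ∈ (PrimeSpectrum.comap fj b).asIdeal := by
      show fj _ ∈ b.asIdeal
      rw [hja]
      exact zero_mem _
    rw [h2] at h4
    have h3 : fi (E.symm (Pi.single i 1)) ∈ a.asIdeal := h4
    rw [hia] at h3
    exact a.isPrime.ne_top (a.asIdeal.eq_top_iff_one.2 h3)
  · refine DivSeqLib.Hpull_eq_zero_of_HGmPull (U i).ι n x ?_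
    let e : ((U i : S.Opens) : Scheme.{u}) ⟶ Spec (CommRingCat.of (L i)) := (q i).isoOpensRange.inv
    haveI : PreservesFiniteLimits (EtCoh.pull e) := pullExact _
    haveI : PreservesFiniteLimits (EtCoh.pull (q i)) := pullExact _
    haveI := h (L i)
    rw [DivSeqLib.HGmPull_comp e (q i) (U i).ι (Scheme.Hom.isoOpensRange_inv_comp (q i)),
      Subsingleton.elim (EtLim.HGmPull (q i) n x) 0, map_zero]

theorem subsingleton_ext_Gm_of_compact (k : Type u) [Field k] (V : (Spec (CommRingCat.of k)).Etale)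
    [CompactSpace ↥V.left] (n : ℕ)
    (h : ∀ (L : Type u) [Field L] [Algebra k L] [FiniteDimensional k L] [Algebra.IsSeparable k L],
      Subsingleton (EtCoh.H (Spec (CommRingCat.of L)) (EtCoh.Gm (Spec (CommRingCat.of L))) n)) :
    Subsingleton (Ext.{u + 1} (free V) (EtCoh.Gm (Spec (CommRingCat.of k))) n) := by
  haveI : AlgebraicGeometry.Etale V.hom := V.prop
  haveI := DivSeqLib.isIso_thetaGm V.hom
  haveI : CompactSpace ↥((𝟭 Scheme.{u}).obj V.left) := inferInstanceAs (CompactSpace ↥V.left)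
  haveI hV : Subsingleton (EtCoh.H V.left (EtCoh.Gm V.left) n) := subsingleton_H_Gm_etale k V.hom n h
  refine ⟨fun a b => (psi_bijective V n _).1 (sub_eq_zero.1 ?_)⟩
  generalize psi V _ n a - psi V _ n b = x
  have h : x.comp (Ext.mk₀ (DivSeqLib.thetaGm V.hom)) (add_zero n) = 0 :=
    hV.elim (x.comp (Ext.mk₀ (DivSeqLib.thetaGm V.hom)) (add_zero n)) 0
  have h' := congrArg (fun z => Ext.comp z (Ext.mk₀ (inv (DivSeqLib.thetaGm V.hom))) (add_zero n)) h
  rwa [Ext.comp_assoc_of_third_deg_zero, Ext.mk₀_comp_mk₀, IsIso.hom_inv_id, Ext.comp_mk₀_id, Ext.zero_comp] at h'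

/-- `R^{n+1} g_* G_m = 0` for a point with vanishing `H^{n+1}` of all finite separable extensions. -/
theorem isZero_Rpush_Gm {k : Type u} [Field k] {Y : Scheme.{u}} (g : Spec (CommRingCat.of k) ⟶ Y)
    [QuasiCompact g] [QuasiSeparated g] (n : ℕ)
    (h : ∀ (L : Type u) [Field L] [Algebra k L] [FiniteDimensional k L] [Algebra.IsSeparable k L],
      Subsingleton (EtCoh.H (Spec (CommRingCat.of L)) (EtCoh.Gm (Spec (CommRingCat.of L))) (n + 1))) :
    IsZero ((EtCoh.Rpush g (n + 1)).obj (EtCoh.Gm (Spec (CommRingCat.of k)))) := by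
  refine EtAcycLib.isZero_Rpush_of_killed g n _ fun W y w => ?_
  obtain ⟨W', φ, w', hw', hW'⟩ := SkySumLib.exists_affine W w
  refine ⟨W', φ, ⟨w', hw'⟩, ?_⟩
  haveI : AlgebraicGeometry.Etale W'.hom := W'.prop
  haveI := hW'
  haveI : CompactSpace ↥((EtCoh.bc g).obj W').left := (bc_mem_qcqsObj g (V := W')).1
  haveI := subsingleton_ext_Gm_of_compact k ((EtCoh.bc g).obj W') (n + 1) h
  exact Subsingleton.elim _ _

end EtBrLib

end
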