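import Groth.Agent.EtBrLib.Cyclic
import Groth.Agent.DivSeqLib.HGm
import Mathlib.GroupTheory.Sylow
import Mathlib.GroupTheory.GroupAction.CardCommute

/-!
# Vanishing of the cohomology of `G_m` over fields with surjective norms
-/

set_option autoImplicit false
set_option linter.unusedSectionVars false
set_option linter.style.haveILetI false
set_option backward.isDefEq.respectTransparency false
set_option backward.isDefEq.respectTransparency.types false
set_option synthInstance.maxHeartbeats 400000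
set_option maxHeartbeats 1000000

universe u

open CategoryTheory CategoryTheory.Limits CategoryTheory.Abelian AlgebraicGeometry Opposite
open Groth.Agent.EtShLib EtSliceLib EtTransferLib EtKummerLib

noncomputable section

namespace EtBrLib

/-- Norms from cyclic extensions are surjective. -/
def NormSurj (k : Type u) [Field k] : Prop :=
  ∀ (M : Type u) [Field M] [Algebra k M] [FiniteDimensional k M] [IsGalois k M] (σ : M ≃ₐ[k] M),
    (∀ g : M ≃ₐ[k] M, g ∈ Subgroup.zpowers σ) → ∀ b : k, ∃ x : M, Algebra.norm k x = b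

/-- The same over every finite separable extension. -/
def Hered (k : Type u) [Field k] : Prop :=
  ∀ (k' : Type u) [Field k'] [Algebra k k'] [FiniteDimensional k k'] [Algebra.IsSeparable k k'], NormSurj k'

theorem Hered.ext {k : Type u} [Field k] (h : Hered k) (k' : Type u) [Field k'] [Algebra k k']
    [FiniteDimensional k k'] [Algebra.IsSeparable k k'] : Hered k' := fun k'' _ _ _ _ => by
  letI : Algebra k k'' := ((algebraMap k' k'').comp (algebraMap k k')).toAlgebra
  haveI : IsScalarTower k k' k'' := IsScalarTower.of_algebraMap_eq fun _ => rfl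
  haveI : FiniteDimensional k k'' := FiniteDimensional.trans k k' k''
  haveI : Algebra.IsSeparable k k'' := Algebra.IsSeparable.trans k k' k''
  exact h k''

theorem Hered.self {k : Type u} [Field k] (h : Hered k) : NormSurj k := h k

theorem kills_iff_HGmPull (k L : Type u) [Field k] [Field L] [Algebra k L] [FiniteDimensional k L]
    [Algebra.IsSeparable k L] (n : ℕ) (α : EtCoh.H (Spec (CommRingCat.of k)) (EtCoh.Gm (Spec (CommRingCat.of k))) n) :
    EtLim.HGmPull (fieldEt k L).hom n α = 0 ↔ (Ext.mk₀ (toConst (fieldEt k L))).comp α (zero_add n) = 0 := by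
  haveI : AlgebraicGeometry.Etale (fieldEt k L).hom := (fieldEt k L).prop
  rw [← EtTransferLib.kills_iff (EtCoh.Gm (Spec (CommRingCat.of k))) n α]
  refine ⟨fun h => DivSeqLib.Hpull_eq_zero_of_HGmPull _ n α h, fun h => ?_⟩
  rw [DivSeqLib.HGmPull_eq]
  refine (congrArg (fun t => Ext.comp t (Ext.mk₀ (DivSeqLib.thetaGm _)) (add_zero n)) h).trans ?_
  exact Ext.zero_comp _ _ _ _ _

theorem subsingleton_ext_fieldEt (k L : Type u) [Field k] [Field L] [Algebra k L] [FiniteDimensional k L]
    [Algebra.IsSeparable k L] (n : ℕ)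
    (hL : Subsingleton (EtCoh.H (Spec (CommRingCat.of L)) (EtCoh.Gm (Spec (CommRingCat.of L))) n)) :
    Subsingleton (Ext.{u + 1} (free (fieldEt k L)) (EtCoh.Gm (Spec (CommRingCat.of k))) n) := by
  let W := fieldEt k L
  haveI : AlgebraicGeometry.Etale W.hom := W.prop
  haveI := DivSeqLib.isIso_thetaGm W.hom
  refine ⟨fun a b => (psi_bijective W n _).1 (sub_eq_zero.1 ?_)⟩
  generalize psi W _ n a - psi W _ n b = x
  have h : x.comp (Ext.mk₀ (DivSeqLib.thetaGm W.hom)) (add_zero n) = 0 :=
    hL.elim (x.comp (Ext.mk₀ (DivSeqLib.thetaGm W.hom)) (add_zero n)) 0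
  have h' := congrArg (fun z => Ext.comp z (Ext.mk₀ (inv (DivSeqLib.thetaGm W.hom))) (add_zero n)) h
  rwa [Ext.comp_assoc_of_third_deg_zero, Ext.mk₀_comp_mk₀, IsIso.hom_inv_id, Ext.comp_mk₀_id, Ext.zero_comp] at h'

theorem eq_zero_of_top {X : Scheme.{u}} {F : EtCoh.Ab X} {n : ℕ} (α : EtCoh.H X F n)
    (h : (Ext.mk₀ (toConst (EtCoh.top X))).comp α (zero_add n) = 0) : α = 0 := by
  obtain ⟨s, hs⟩ := exists_section_toConst X
  rw [← Ext.mk₀_id_comp α, ← hs, ← Ext.mk₀_comp_mk₀, Ext.comp_assoc_of_second_deg_zero, h, Ext.comp_zero]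

theorem subsingleton_ext_top (k : Type u) [Field k] {F : EtCoh.Ab (Spec (CommRingCat.of k))} (n : ℕ)
    [Subsingleton (EtCoh.H (Spec (CommRingCat.of k)) F n)] :
    ∀ y : Ext.{u + 1} (free (EtCoh.top (Spec (CommRingCat.of k)))) F n, y = 0 := fun y => by
  let X := Spec (CommRingCat.of k)
  let s : EtCoh.const X ℤ ⟶ free (EtCoh.top X) :=
    ((EtCore.constAdj X).homEquiv _ _).symm (intHom (gen (EtCoh.top X)))
  have hs' : toConst (EtCoh.top X) ≫ s = 𝟙 _ := by
    refine free_hom_ext _ ?_
    show s.hom.app (op (EtCoh.top X)) ((toConst (EtCoh.top X)).hom.app (op (EtCoh.top X)) (gen _)) = gen _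
    rw [toConst, desc_gen, (EtCore.topIsTerminal X).hom_ext ((EtCore.topIsTerminal X).from (EtCoh.top X)) (𝟙 _),
      op_id, CategoryTheory.Functor.map_id]
    exact (gsec_map_symm _).trans (intHom_one _)
  rw [← Ext.mk₀_id_comp y, ← hs', ← Ext.mk₀_comp_mk₀, Ext.comp_assoc_of_second_deg_zero,
    show (Ext.mk₀ s).comp y (zero_add n) = 0 from Subsingleton.elim (α := EtCoh.H (Spec (CommRingCat.of k)) F n) _ _,
    Ext.comp_zero]

/-- A constant as a section of `G_m` over the point. -/
def gmTop (k : Type u) [Field k] (c : kˣ) :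
    ToType ((EtCoh.Gm (Spec (CommRingCat.of k))).obj.obj (op (EtCoh.top (Spec (CommRingCat.of k))))) :=
  ULift.up (Additive.ofMul (α := Γ(Spec (CommRingCat.of k), ⊤)ˣ)
    (Units.map (Scheme.ΓSpecIso (CommRingCat.of k)).inv.hom.toMonoidHom c))

theorem gmTop_surjective (k : Type u) [Field k] : Function.Surjective (gmTop k) :=
  ULift.up_bijective.surjective.comp (Additive.ofMul.bijective.surjective.comp
    (Units.mapEquiv (Scheme.ΓSpecIso (CommRingCat.of k)).symm.commRingCatIsoToRingEquiv.toMulEquiv).surjective)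

variable (k M : Type u) [Field k] [Field M] [Algebra k M] [FiniteDimensional k M] [IsGalois k M]

theorem map_gmTop (c : kˣ) :
    (EtCoh.Gm (Spec (CommRingCat.of k))).obj.map (toTop k M).op (gmTop k c) =
      gmSec k M (Units.map (algebraMap k M).toMonoidHom c) := by
  refine congrArg (fun t => ULift.up (Additive.ofMul t)) (Units.ext ?_)
  have h : (toTop k M).left = Spec.map (CommRingCat.ofHom (algebraMap k M)) :=
    (Category.comp_id _).symm.trans (MorphismProperty.Over.w (toTop k M))
  refine (congrArg (fun t : Spec (CommRingCat.of M) ⟶ Spec (CommRingCat.of k) =>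
    t.appTop ((Scheme.ΓSpecIso (CommRingCat.of k)).inv (c : k))) h).trans ?_
  exact (congrArg (fun t : CommRingCat.of k ⟶ _ => t.hom (c : k))
    (Scheme.ΓSpecIso_inv_naturality (CommRingCat.ofHom (algebraMap k M)))).symm

theorem gmSec_prod {ι : Type*} (s : Finset ι) (f : ι → Mˣ) :
    gmSec k M (∏ i ∈ s, f i) = ∑ i ∈ s, gmSec k M (f i) := by
  classical
  induction s using Finset.induction_on with
  | empty =>
    rw [Finset.prod_empty, Finset.sum_empty]
    have h := gmSec_mul k M 1 1
    rw [one_mul] at h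
    exact left_eq_add.1 h
  | insert a s ha ih => rw [Finset.prod_insert ha, Finset.sum_insert ha, gmSec_mul, ih]

theorem sum_hom_app {X : Scheme.{u}} {P Q : EtCoh.Ab X} {ι : Type*} (s : Finset ι) (f : ι → (P ⟶ Q)) (W : X.Etale)
    (x : ToType (P.obj.obj (op W))) : (∑ i ∈ s, f i).hom.app (op W) x = ∑ i ∈ s, (f i).hom.app (op W) x := by
  classical
  induction s using Finset.induction_on with
  | empty => rw [Finset.sum_empty, Finset.sum_empty]; rfl
  | insert a s ha ih =>
    rw [Finset.sum_insert ha, Finset.sum_insert ha, ← ih]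
    rfl

theorem exists_norm_preimage (σ : M ≃ₐ[k] M) (hσ : ∀ g : M ≃ₐ[k] M, g ∈ Subgroup.zpowers σ) (hk : NormSurj k)
    (b : Ext.{u + 1} (free (EtCoh.top (Spec (CommRingCat.of k)))) (EtCoh.Gm (Spec (CommRingCat.of k))) 0) :
    ∃ b' : Ext.{u + 1} (free (fieldEt k M)) (EtCoh.Gm (Spec (CommRingCat.of k))) 0,
      (Ext.mk₀ (nrm k M)).comp b' (zero_add 0) = b := by
  obtain ⟨f, rfl⟩ := (Ext.mk₀_bijective _ _).2 b
  obtain ⟨c, hc⟩ := gmTop_surjective k (f.hom.app (op _) (gen (EtCoh.top (Spec (CommRingCat.of k)))))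
  obtain ⟨x, hx⟩ := hk M σ hσ c
  have hx0 : x ≠ 0 := fun h => c.ne_zero (hx.symm.trans (by rw [h]; exact Algebra.norm_zero))
  let g := desc (fieldEt k M) (gmSec k M (Units.mk0 x hx0))
  refine ⟨Ext.mk₀ g, ?_⟩
  rw [Ext.mk₀_comp_mk₀]
  haveI := epi_eps k M
  refine congrArg _ ((cancel_epi (eps k M)).1 (free_hom_ext (fieldEt k M) ?_))
  rw [freeMap_app (toTop k M) f, ← hc, map_gmTop, ← Category.assoc, eps_nrm, Preadditive.sum_comp]
  rw [show (∑ a : M ≃ₐ[k] M, freeMap (autMap k M a) ≫ g).hom.app (op (fieldEt k M)) (gen (fieldEt k M)) =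
    ∑ a : M ≃ₐ[k] M, (freeMap (autMap k M a) ≫ g).hom.app (op (fieldEt k M)) (gen (fieldEt k M)) from
      sum_hom_app _ _ _ _]
  simp only [freeMap_app, g, desc_gen, map_gmSec]
  rw [← gmSec_prod]
  refine congrArg (gmSec k M) (Units.ext ?_)
  show _ = algebraMap k M (c : k)
  rw [← hx, Algebra.norm_eq_prod_automorphisms, Units.coe_prod]
  rfl

omit M in
theorem subsingleton_H_Gm : ∀ (q : ℕ) (k : Type u) [Field k], Hered k → 1 ≤ q →
    Subsingleton (EtCoh.H (Spec (CommRingCat.of k)) (EtCoh.Gm (Spec (CommRingCat.of k))) q) := by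
  intro q
  induction q using Nat.strong_induction_on with
  | _ q IH =>
  intro k _ hk hq
  rcases Nat.eq_or_lt_of_le hq with rfl | hq2
  · exact EtKummerLib.subsingleton_H1_Gm k
  obtain ⟨n, rfl⟩ : ∃ n, q = n + 2 := ⟨q - 2, by omega⟩
  suffices main : ∀ (d : ℕ) (k : Type u) [Field k], Hered k → ∀ (N : Type u) [Field N] [Algebra k N]
      [FiniteDimensional k N] [IsGalois k N], Module.finrank k N = d →
      ∀ α : EtCoh.H (Spec (CommRingCat.of k)) (EtCoh.Gm (Spec (CommRingCat.of k))) (n + 2),
        EtLim.HGmPull (fieldEt k N).hom (n + 2) α = 0 → α = 0 by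
    refine subsingleton_of_forall_eq 0 fun α => ?_
    obtain ⟨L, _, _, _, _, h⟩ := exists_field_kill k (n := n + 1) α
    let N := IntermediateField.normalClosure k L (SeparableClosure k)
    haveI : Algebra.IsSeparable k N := Algebra.isSeparable_tower_bot_of_isSeparable k N (SeparableClosure k)
    haveI : IsGalois k N := ⟨⟩
    let f : L →ₐ[k] SeparableClosure k := IsSepClosed.lift
    let τ : L →ₐ[k] N := f.codRestrict N.toSubalgebra fun y => AlgHom.fieldRange_le_normalClosure f ⟨y, rfl⟩
    let φ : fieldEt k N ⟶ fieldEt k L :=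
      MorphismProperty.Over.homMk (Spec.map (CommRingCat.ofHom τ.toRingHom)) (by
        show Spec.map _ ≫ Spec.map (CommRingCat.ofHom (algebraMap k L)) = Spec.map (CommRingCat.ofHom (algebraMap k N))
        rw [← Spec.map_comp, ← CommRingCat.ofHom_comp]
        exact congrArg (fun c => Spec.map (CommRingCat.ofHom c)) τ.comp_algebraMap)
    refine main _ k hk N rfl α ((kills_iff_HGmPull k N _ α).2 ?_)
    rw [← freeMap_toConst φ, ← Ext.mk₀_comp_mk₀, Ext.comp_assoc_of_second_deg_zero, h, Ext.comp_zero]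
  intro d
  induction d using Nat.strong_induction_on with
  | _ d IHd =>
  intro k _ hk N _ _ _ _ hd α hα
  have step : ∀ K' : IntermediateField k N, Module.finrank K' N < d →
      EtLim.HGmPull (fieldEt k K').hom (n + 2) α = 0 := fun K' hK' => by
    refine IHd _ hK' K' (hk.ext K') N rfl _ ?_
    refine (DivSeqLib.HGmPull_comp (fieldEt K' N).hom (fieldEt k K').hom (fieldEt k N).hom (by
      show Spec.map _ ≫ Spec.map _ = Spec.map _
      rw [← Spec.map_comp]
      rfl) (n + 2) α).symm.trans hα
  have hdα : d • α = 0 := hd ▸ finrank_nsmul k N α ((kills_iff_HGmPull k N _ α).1 hα)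
  have hd0 : 0 < d := hd ▸ Module.finrank_pos
  have hcard : Nat.card (N ≃ₐ[k] N) = d := by rw [IsGalois.card_aut_eq_finrank, hd]
  by_contra hne
  have hord : addOrderOf α ≠ 1 := fun h => hne (AddMonoid.addOrderOf_eq_one_iff.1 h)
  obtain ⟨p, hp, hpd⟩ := Nat.exists_prime_and_dvd hord
  haveI : Fact p.Prime := ⟨hp⟩
  obtain ⟨P⟩ : Nonempty (Sylow p (N ≃ₐ[k] N)) := inferInstance
  by_cases hP : (P : Subgroup (N ≃ₐ[k] N)) = ⊤
  · have hG : IsPGroup p (N ≃ₐ[k] N) := fun g => by
      obtain ⟨m, hm⟩ := P.2 ⟨g, hP ▸ Subgroup.mem_top g⟩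
      exact ⟨m, congrArg Subtype.val hm⟩
    obtain ⟨m, hm⟩ := IsPGroup.iff_card.1 hG
    rw [hcard] at hm
    rcases m with _ | m
    · rw [hm, pow_zero, one_smul] at hdα
      exact hne hdα
    obtain ⟨H, hH⟩ := Sylow.exists_subgroup_card_pow_prime p (n := m) (G := N ≃ₐ[k] N)
      (by rw [hcard, hm]; exact pow_dvd_pow p m.le_succ)
    have hidx : H.index = p := by
      have := H.card_mul_index
      rw [hH, hcard, hm, pow_succ] at this
      exact mul_left_cancel₀ (pow_ne_zero _ hp.ne_zero) this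
    haveI : H.Normal := Subgroup.normal_of_index_eq_minFac_card (by
      rw [hidx, hcard, hm, Nat.pow_minFac (Nat.succ_ne_zero m), hp.minFac_eq])
    let M := IntermediateField.fixedField H
    haveI : IsGalois k M := IsGalois.of_fixedField_normal_subgroup H
    have hMN : Module.finrank M N = p ^ m := by
      rw [IntermediateField.finrank_fixedField_eq_card, hH]
    have hkM : Module.finrank k M = p := by
      have := Module.finrank_mul_finrank k M N
      rw [hMN, hd, hm, pow_succ, mul_comm] at this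
      exact mul_left_cancel₀ (pow_ne_zero m hp.ne_zero) this
    have hM0 := step M (by rw [hMN, hm]; exact Nat.pow_lt_pow_right hp.one_lt m.lt_succ_self)
    haveI : IsCyclic (M ≃ₐ[k] M) := isCyclic_of_prime_card (p := p) (by rw [IsGalois.card_aut_eq_finrank, hkM])
    obtain ⟨σ, hσ⟩ := IsCyclic.exists_generator (α := M ≃ₐ[k] M)
    refine hne (eq_zero_of_top α ?_)
    refine eq_zero_of_cyclic_kill k M σ hσ (n := n) ?_ ?_ _ ?_
    · intro a
      haveI := subsingleton_ext_fieldEt k M (n + 1) (IH (n + 1) (by omega) M (hk.ext M) (by omega))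
      exact Subsingleton.elim _ _
    · intro b
      rcases Nat.eq_zero_or_pos n with rfl | hn
      · exact exists_norm_preimage k M σ hσ hk.self b
      · haveI := IH n (by omega) k hk hn
        exact ⟨0, by rw [Ext.comp_zero, subsingleton_ext_top k n b]⟩
    · rw [← Ext.comp_assoc_of_second_deg_zero, Ext.mk₀_comp_mk₀, freeMap_toConst]
      exact (kills_iff_HGmPull k M _ α).1 hM0
  · let K' := IntermediateField.fixedField (P : Subgroup (N ≃ₐ[k] N))
    have hlt : Module.finrank K' N < d := by
      rw [IntermediateField.finrank_fixedField_eq_card, ← hcard]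
      refine lt_of_le_of_ne (Subgroup.card_le_card_group _) fun h => hP (Subgroup.eq_top_of_card_eq _ h)
    have h0 : Module.finrank k K' • α = 0 :=
      finrank_nsmul k K' α ((kills_iff_HGmPull k K' _ α).1 (step K' hlt))
    have hidx : Module.finrank k K' = (P : Subgroup (N ≃ₐ[k] N)).index := by
      have := Module.finrank_mul_finrank k K' N
      rw [IntermediateField.finrank_fixedField_eq_card, hd, ← hcard,
        ← (P : Subgroup (N ≃ₐ[k] N)).card_mul_index, mul_comm] at this
      exact mul_left_cancel₀ Nat.card_pos.ne' this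
    exact P.not_dvd_index (hidx ▸ hpd.trans (addOrderOf_dvd_iff_nsmul_eq_zero.2 h0))

end EtBrLib

end
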