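import Groth.Agent.CSALib.CyclicNorm

/-!
# Surjectivity of norms over fields with trivial Brauer group
-/

set_option autoImplicit false

universe u

namespace EtBrLib

open CSALib

/-- Every central division algebra is trivial. -/
def DivTrivial (k : Type u) [Field k] : Prop :=
  ∀ (D : Type u) [DivisionRing D] [Algebra k D] [Algebra.IsCentral k D] [FiniteDimensional k D],
    Module.finrank k D = 1

theorem norm_surjective {k K : Type u} [Field k] [Field K] [Algebra k K] [FiniteDimensional k K] [IsGalois k K]
    (hk : DivTrivial k) (σ : K ≃ₐ[k] K) (hσ : ∀ τ : K ≃ₐ[k] K, τ ∈ Subgroup.zpowers σ) (b : k) :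
    ∃ x : K, Algebra.norm k x = b := by
  rcases eq_or_ne b 0 with rfl | hb
  · exact ⟨0, Algebra.norm_zero⟩
  have h1 : ∀ x : Br k, x = 1 := fun x => by
    induction x using induction_cl with | h A => ?_
    obtain ⟨m, D, _, _, hm, _, _, ⟨e⟩⟩ := wedderburn (k := k) A
    have hD := hk D
    have hb : Function.Bijective (Algebra.ofId k D) := by
      refine ⟨(algebraMap k D).injective, fun d => ?_⟩
      obtain ⟨c, hc⟩ := exists_smul_eq_of_finrank_eq_one hD (one_ne_zero (α := D)) d
      exact ⟨c, (Algebra.algebraMap_eq_smul_one c).trans hc⟩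
    rw [one_def, cl_eq_iff]
    exact BrEq.of_matrix hm.ne' (e.trans (AlgEquiv.ofBijective _ hb).symm.mapMatrix)
  exact (cycCl_eq_one_iff hσ (Units.mk0 b hb)).1 (h1 _)

end EtBrLib
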