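import Groth.Agent.EtBrLib.Point
import Groth.Agent.S0229
import Groth.Agent.S0073
import Groth.Agent.S14451
import Groth.Agent.SkySumLib.Cohom
import Groth.Agent.CurveFFLib.GenEtale

/-!
# Fields of transcendence degree at most one
-/

set_option autoImplicit false
set_option linter.unusedSectionVars false
set_option linter.style.haveILetI false
set_option backward.isDefEq.respectTransparency false
set_option backward.isDefEq.respectTransparency.types false
set_option synthInstance.maxHeartbeats 400000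
set_option maxHeartbeats 1000000

universe u

open CategoryTheory CategoryTheory.Limits AlgebraicGeometry

noncomputable section

namespace EtBrLib

theorem subsingleton_H_Gm_of_trdeg {k : Type u} [Field k] [IsAlgClosed k] (K : Type u) [Field K] [Algebra k K]
    {s : ℕ} (hs : s ≤ 1) (hK : Algebra.trdeg k K = s) (q : ℕ) (hq : 1 ≤ q) :
    Subsingleton (EtCoh.H (Spec (CommRingCat.of K)) (EtCoh.Gm (Spec (CommRingCat.of K))) q) := by
  rcases Nat.le_one_iff_eq_zero_or_eq_one.1 hs with rfl | rfl
  · haveI : Algebra.IsAlgebraic k K := trdeg_eq_zero_iff.1 (by rw [hK, Nat.cast_zero])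
    haveI : IsSepClosed K := Algebra.IsAlgebraic.isSepClosed (F := k)
    haveI := SkySumLib.isSepClosed_residueField_self K
    exact Groth.Agent.S0073.result K _ q hq
  · exact Groth.Agent.S0229.result k K (hK.trans Nat.cast_one) q hq

theorem trdeg_of_finite {k : Type u} [Field k] (K L : Type u) [Field K] [Field L] [Algebra k K] [Algebra K L]
    [Algebra k L] [IsScalarTower k K L] [FiniteDimensional K L] : Algebra.trdeg k L = Algebra.trdeg k K := by
  rw [← trdeg_add_eq k K (A := L), trdeg_eq_zero (R := K) (A := L), add_zero]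

theorem subsingleton_H_Gm_ext {k : Type u} [Field k] [IsAlgClosed k] (K : Type u) [Field K] [Algebra k K]
    {s : ℕ} (hs : s ≤ 1) (hK : Algebra.trdeg k K = s) (q : ℕ) (hq : 1 ≤ q)
    (L : Type u) [Field L] [Algebra K L] [FiniteDimensional K L] :
    Subsingleton (EtCoh.H (Spec (CommRingCat.of L)) (EtCoh.Gm (Spec (CommRingCat.of L))) q) := by
  letI : Algebra k L := ((algebraMap K L).comp (algebraMap k K)).toAlgebra
  haveI : IsScalarTower k K L := IsScalarTower.of_algebraMap_eq fun _ => rfl
  exact subsingleton_H_Gm_of_trdeg (k := k) L hs ((trdeg_of_finite K L).trans hK) q hq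

/-- `R^q g_* G_m = 0` at points of transcendence degree at most one. -/
theorem isZero_Rpush_Gm_of_trdeg {k : Type u} [Field k] [IsAlgClosed k] {K : Type u} [Field K] [Algebra k K]
    {s : ℕ} (hs : s ≤ 1) (hK : Algebra.trdeg k K = s) {Y : Scheme.{u}} (g : Spec (CommRingCat.of K) ⟶ Y)
    [QuasiCompact g] [QuasiSeparated g] (q : ℕ) (hq : 1 ≤ q) :
    IsZero ((EtCoh.Rpush g q).obj (EtCoh.Gm (Spec (CommRingCat.of K)))) := by
  obtain ⟨n, rfl⟩ : ∃ n, q = n + 1 := ⟨q - 1, by omega⟩
  exact isZero_Rpush_Gm g n fun L _ _ _ _ => subsingleton_H_Gm_ext K hs hK (n + 1) hq L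

/-- `H^p(Y, g_* G_m) = 0`. -/
theorem subsingleton_H_push_Gm {k : Type u} [Field k] [IsAlgClosed k] {K : Type u} [Field K] [Algebra k K]
    {s : ℕ} (hs : s ≤ 1) (hK : Algebra.trdeg k K = s) {Y : Scheme.{u}} (g : Spec (CommRingCat.of K) ⟶ Y)
    [QuasiCompact g] [QuasiSeparated g] (p : ℕ) (hp : 1 ≤ p) :
    Subsingleton (EtCoh.H Y ((EtCoh.push g).obj (EtCoh.Gm (Spec (CommRingCat.of K)))) p) := by
  haveI : PreservesFiniteLimits (EtCoh.pull g) := EtSliceLib.pullExact g
  haveI := subsingleton_H_Gm_of_trdeg (k := k) K hs hK p hp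
  exact ⟨fun a b => (Groth.Agent.S14451.result g _ (fun q hq => isZero_Rpush_Gm_of_trdeg hs hK g q hq) p).1
    (Subsingleton.elim _ _)⟩

theorem exists_trdeg_functionField {k : Type u} [Field k] (X : Scheme.{u}) (f : X ⟶ Spec (CommRingCat.of k))
    [LocallyOfFiniteType f] [IsIntegral X] (hdim : topologicalKrullDim X = 1) :
    ∃ _ : Algebra k X.functionField, Algebra.trdeg k X.functionField = ((1 : ℕ) : Cardinal) := by
  letI : X.Over (Spec (CommRingCat.of k)) := ⟨f⟩
  haveI : LocallyOfFiniteType (X ↘ Spec (CommRingCat.of k)) := ‹LocallyOfFiniteType f›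
  letI := Curv2.stalkAlgebra k X (genericPoint X)
  obtain ⟨s, hs, hs'⟩ := CurveFFLib.trdeg_functionField (k := k) (X := X)
  rw [hdim] at hs
  have : s = 1 := by exact_mod_cast hs.symm
  exact ⟨Curv2.stalkAlgebra k X (genericPoint X), this ▸ hs'⟩

end EtBrLib

end
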