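import Groth.Agent.EtBrLib.Curve
import Groth.Agent.SkySumLib.MaxMain
import Groth.Agent.VarDimLib.Basic

/-!
# `H^q(X, G_m) = 0` for `q ≥ 2` on reduced curves over algebraically closed fields
-/

set_option autoImplicit false
set_option linter.unusedSectionVars false
set_option linter.style.haveILetI false
set_option backward.isDefEq.respectTransparency false
set_option backward.isDefEq.respectTransparency.types false
set_option synthInstance.maxHeartbeats 400000
set_option maxHeartbeats 1000000

universe u

open CategoryTheory CategoryTheory.Limits AlgebraicGeometry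

noncomputable section

namespace EtBrLib

theorem subsingleton_H_Gm_curve {k : Type u} [Field k] [IsAlgClosed k] (X : Scheme.{u})
    (f : X ⟶ Spec (CommRingCat.of k)) [LocallyOfFiniteType f] [QuasiCompact f] [IsReduced X]
    (hdim : topologicalKrullDim X ≤ 1) (q : ℕ) (hq : 2 ≤ q) :
    Subsingleton (EtCoh.H X (EtCoh.Gm X) q) := by
  haveI : IsLocallyNoetherian X := LocallyOfFiniteType.isLocallyNoetherian f
  haveI : CompactSpace X := QuasiCompact.compactSpace_of_compactSpace f
  haveI : IsNoetherian X := { }
  refine SkySumLib.subsingleton_H_Gm_curve hdim (fun x => SkySumLib.isSepClosed_residueField f x.1 x.2) q hq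
    fun x => ?_
  letI : X.Over (Spec (CommRingCat.of k)) := ⟨f⟩
  haveI : LocallyOfFiniteType (X ↘ Spec (CommRingCat.of k)) := ‹LocallyOfFiniteType f›
  obtain ⟨s, hs, hs'⟩ := VarDimLib.closureDim_eq_trdeg k X x.1
  letI := Curv2.resAlgebra k X x.1
  have h1 : ((s : ℕ) : WithBot ℕ∞) ≤ 1 := by
    rw [← hs]
    exact (topologicalKrullDim_subspace_le X (closure ({x.1} : Set X))).trans hdim
  have hs1 : s ≤ 1 := by exact_mod_cast h1
  let g : Spec (CommRingCat.of (X.residueField x.1)) ⟶ X := X.fromSpecResidueField x.1
  haveI : QuasiCompact g := quasiCompact_of_compactSpace _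
  haveI : QuasiSeparated g := inferInstance
  exact subsingleton_H_push_Gm hs1 hs' g q (by omega)

end EtBrLib

end
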