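import Groth.Agent.EtTransferLib.Basic
import Groth.Agent.EtShLib.ExtConst

/-!
# The stalks of the free sheaves on étale objects
-/

set_option autoImplicit false
set_option linter.unusedSectionVars false
set_option linter.style.haveILetI false
set_option backward.isDefEq.respectTransparency false
set_option backward.isDefEq.respectTransparency.types false
set_option synthInstance.maxHeartbeats 400000
set_option maxHeartbeats 1000000

universe u

open CategoryTheory CategoryTheory.Limits AlgebraicGeometry Opposite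
open Groth.Agent.EtShLib EtSliceLib

noncomputable section

namespace EtBrLib

variable {X : Scheme.{u}} {Ω : Type u} [Field Ω] [IsSepClosed Ω] (ξ : Spec (CommRingCat.of Ω) ⟶ X) (U : X.Etale)

/-- The stalk of the free sheaf. -/
abbrev PSt : AddCommGrpCat.{u + 1} := (stk (A := AddCommGrpCat.{u + 1}) ξ).obj (free U)

/-- The tautological germs. -/
def e (v : Fib ξ U) : PSt ξ U := germ (A := AddCommGrpCat.{u + 1}) ξ (free U) U v (gen U)

theorem exists_hom {N : AddCommGrpCat.{u + 1}} (b : Fib ξ U → N) :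
    ∃ h : PSt ξ U ⟶ N, ∀ v, h (e ξ U v) = b v := by
  obtain ⟨h, hh, -⟩ := existsUnique_stalk_extConst U ℤ ξ (fun v => intHom (b v))
  refine ⟨h, fun v => ?_⟩
  have := congrArg (fun t : AddCommGrpCat.of (ULift.{u + 1} ℤ) ⟶ N => t ⟨1⟩) (hh v)
  exact this.trans (intHom_one _)

theorem hom_ext {N : AddCommGrpCat.{u + 1}} {h h' : PSt ξ U ⟶ N} (hh : ∀ v, h (e ξ U v) = h' (e ξ U v)) :
    h = h' := by
  obtain ⟨h₀, -, huniq⟩ := existsUnique_stalk_extConst U ℤ ξ (fun v => intHom (h (e ξ U v)))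
  have h1 : h = h₀ := huniq h fun v => ulift_int_hom_ext (intHom_one (h (e ξ U v))).symm
  have h2 : h' = h₀ := huniq h' fun v => ulift_int_hom_ext ((hh v).symm.trans (intHom_one (h (e ξ U v))).symm)
  rw [h1, h2]

theorem exists_coord : ∃ c : Fib ξ U → (PSt ξ U →+ ℤ), ∀ v, c v (e ξ U v) = 1 ∧ ∀ w, w ≠ v → c v (e ξ U w) = 0 := by
  classical
  have h : ∀ v : Fib ξ U, ∃ c : PSt ξ U →+ ℤ, c (e ξ U v) = 1 ∧ ∀ w, w ≠ v → c (e ξ U w) = 0 := fun v => by
    obtain ⟨h, hh⟩ := exists_hom ξ U (N := AddCommGrpCat.of (ULift.{u + 1} ℤ))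
      (fun w => if w = v then ⟨1⟩ else ⟨0⟩)
    refine ⟨AddEquiv.ulift.toAddMonoidHom.comp h.hom, ?_, fun w hw => ?_⟩
    · show (h (e ξ U v) : ULift.{u + 1} ℤ).down = 1
      rw [hh, if_pos rfl]
    · show (h (e ξ U w) : ULift.{u + 1} ℤ).down = 0
      rw [hh, if_neg hw]
  choose c hc using h
  exact ⟨c, hc⟩

/-- Coordinates. -/
def coord (v : Fib ξ U) : PSt ξ U →+ ℤ := (exists_coord ξ U).choose v

theorem coord_self (v : Fib ξ U) : coord ξ U v (e ξ U v) = 1 := ((exists_coord ξ U).choose_spec v).1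

theorem coord_ne {v w : Fib ξ U} (h : w ≠ v) : coord ξ U v (e ξ U w) = 0 := ((exists_coord ξ U).choose_spec v).2 w h

theorem decomp [Fintype (Fib ξ U)] (p : PSt ξ U) : p = ∑ v, coord ξ U v p • e ξ U v := by
  classical
  let g : PSt ξ U ⟶ PSt ξ U :=
    AddCommGrpCat.ofHom (∑ v, ((zmultiplesHom _ (e ξ U v)).comp (coord ξ U v)))
  have hg : ∀ q, g q = ∑ v, coord ξ U v q • e ξ U v := fun q => by
    show (∑ v, ((zmultiplesHom _ (e ξ U v)).comp (coord ξ U v)) : PSt ξ U →+ PSt ξ U) q = _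
    rw [AddMonoidHom.finsetSum_apply]
    rfl
  have : g = 𝟙 _ := hom_ext ξ U fun w => by
    rw [hg, Finset.sum_eq_single w (fun v _ hv => by rw [coord_ne ξ U (Ne.symm hv), zero_smul])
      (fun h => absurd (Finset.mem_univ w) h), coord_self, one_smul]
    rfl
  rw [← hg, this]
  rfl

theorem map_e {V : X.Etale} (φ : U ⟶ V) (v : Fib ξ U) :
    (stk (A := AddCommGrpCat.{u + 1}) ξ).map (freeMap φ) (e ξ U v) = e ξ V (v.map φ) := by
  rw [e, germ_natural_apply, freeMap_gen, germ_res_apply]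
  rfl

theorem stk_hom_ext' {G : EtCoh.Ab X} {a b : free U ⟶ G}
    (h : ∀ (Ω : Type u) [Field Ω] [IsSepClosed Ω] (ξ : Spec (CommRingCat.of Ω) ⟶ X) (v : Fib ξ U),
      (stk (A := AddCommGrpCat.{u + 1}) ξ).map a (e ξ U v) = (stk (A := AddCommGrpCat.{u + 1}) ξ).map b (e ξ U v)) :
    a = b := by
  refine free_hom_ext U (eq_of_germ (A := AddCommGrpCat.{u + 1}) G _ _ fun Ω _ _ ξ v => ?_)
  rw [← germ_natural_apply, ← germ_natural_apply]
  exact h Ω ξ v

end EtBrLib

end
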