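import Groth.Agent.EtBrLib.Basis
import Groth.Agent.EtKummerLib.PieceGm

/-!
# The periodicity sequence of a cyclic extension and the vanishing of killed classes
-/

set_option autoImplicit false
set_option linter.unusedSectionVars false
set_option linter.style.haveILetI false
set_option backward.isDefEq.respectTransparency false
set_option backward.isDefEq.respectTransparency.types false
set_option synthInstance.maxHeartbeats 400000
set_option maxHeartbeats 1000000

universe u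

open CategoryTheory CategoryTheory.Limits CategoryTheory.Abelian AlgebraicGeometry Opposite
open Groth.Agent.EtShLib EtSliceLib EtTransferLib EtKummerLib

noncomputable section

namespace EtBrLib

namespace Perm

/-! Combinatorics of a cyclically permuted basis. -/

variable {P Q : Type*} [AddCommGroup P] [AddCommGroup Q] {F : Type*} [Fintype F] (T : P →+ P) (b : F → P)
  (c : F → P →+ ℤ) (h1 : ∀ v, c v (b v) = 1) (h0 : ∀ v w, w ≠ v → c v (b w) = 0)
  (hdec : ∀ p, p = ∑ v, c v p • b v) (π : F → F)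

include h1 h0 in
theorem coord_sum (v : F) : c v (∑ w, b w) = 1 := by
  classical
  rw [map_sum, Finset.sum_eq_single v (fun w _ hw => h0 v w hw) (fun h => absurd (Finset.mem_univ v) h), h1]

include h1 h0 hdec in
theorem fixed_eq (hπ : Function.Injective π) (hT : ∀ v, T (b v) = b (π v)) (v₀ : F)
    (horb : ∀ w, ∃ n : ℕ, π^[n] v₀ = w) (p : P) (hp : T p - p = 0) : p = c v₀ p • ∑ v, b v := by
  classical
  have hc : ∀ v, c (π v) p = c v p := fun v => by
    have h := congrArg (c (π v)) (sub_eq_zero.1 hp)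
    conv_lhs at h => rw [hdec p, map_sum, map_sum]
    rw [← h, Finset.sum_eq_single v]
    · rw [map_zsmul, map_zsmul, hT, h1, smul_eq_mul, mul_one]
    · intro w _ hw
      rw [map_zsmul, map_zsmul, hT, h0 _ _ fun e => hw (hπ e), smul_zero]
    · exact fun h => absurd (Finset.mem_univ v) h
  have hconst : ∀ w, c w p = c v₀ p := fun w => by
    obtain ⟨n, rfl⟩ := horb w
    induction n with
    | zero => rfl
    | succ n ih => rw [Function.iterate_succ_apply', hc, ih]
  conv_lhs => rw [hdec p]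
  rw [Finset.smul_sum]
  exact Finset.sum_congr rfl fun v _ => by rw [hconst v]

include hdec in
theorem sum_coord_eq_zero (E : P →+ Q) (z : Q) (hE : ∀ v, E (b v) = z) (d : Q →+ ℤ) (hd : d z = 1) (p : P)
    (hp : E p = 0) : ∑ v, c v p = 0 := by
  have h := congrArg (fun q => d (E q)) (hdec p)
  simp only [hp, map_zero, map_sum, map_zsmul, hE, hd, smul_eq_mul, mul_one] at h
  exact h.symm

include hdec in
theorem exists_sub_eq (hT : ∀ v, T (b v) = b (π v)) (v₀ : F) (horb : ∀ w, ∃ n : ℕ, π^[n] v₀ = w) (p : P)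
    (hp : ∑ v, c v p = 0) : ∃ q, T q - q = p := by
  have h : ∀ w, ∃ q, T q - q = b w - b v₀ := fun w => by
    obtain ⟨n, rfl⟩ := horb w
    induction n with
    | zero => exact ⟨0, by simp⟩
    | succ n ih =>
      obtain ⟨q, hq⟩ := ih
      refine ⟨q + b (π^[n] v₀), ?_⟩
      rw [map_add, hT, Function.iterate_succ_apply', add_sub_add_comm, hq]
      abel
  choose q hq using h
  refine ⟨∑ v, c v p • q v, ?_⟩
  rw [map_sum, ← Finset.sum_sub_distrib]
  simp only [map_zsmul, ← smul_sub, hq]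
  rw [Finset.sum_congr rfl (fun v _ => smul_sub (c v p) (b v) (b v₀)), Finset.sum_sub_distrib, ← Finset.sum_smul,
    hp, zero_smul, sub_zero, ← hdec p]

theorem eq_zero_of_map_eq_zero (N : Q →+ P) (z : Q) (d : Q →+ ℤ) (hz : ∀ q, q = d q • z) (e₀ : P →+ ℤ)
    (he : e₀ (N z) = 1) (q : Q) (hq : N q = 0) : q = 0 := by
  have h := congrArg e₀ hq
  rw [hz q, map_zsmul, map_zsmul, he, smul_eq_mul, mul_one, map_zero] at h
  rw [hz q, h, zero_smul]

end Perm

variable (k M : Type u) [Field k] [Field M] [Algebra k M] [FiniteDimensional k M] [IsGalois k M]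

local notation "X" => Spec (CommRingCat.of k)

/-- `W → pt`. -/
abbrev toTop : fieldEt k M ⟶ EtCoh.top (Spec (CommRingCat.of k)) := (EtCore.topIsTerminal _).from _

/-- The augmentation. -/
abbrev eps : free (fieldEt k M) ⟶ free (EtCoh.top (Spec (CommRingCat.of k))) := freeMap (toTop k M)

/-- `σ - 1`. -/
abbrev dif (σ : M ≃ₐ[k] M) : free (fieldEt k M) ⟶ free (fieldEt k M) :=
  freeMap (autMap k M σ) - 𝟙 _

theorem isFinite_toTop : IsFinite (toTop k M).left := by
  have h : (toTop k M).left = (fieldEt k M).hom :=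
    (Category.comp_id _).symm.trans (MorphismProperty.Over.w (toTop k M))
  rw [h]
  exact isFinite_specMap k M

variable {Ω : Type u} [Field Ω] [IsSepClosed Ω] (ξ : Spec (CommRingCat.of Ω) ⟶ Spec (CommRingCat.of k))

theorem fib_top_eq (z z' : Fib ξ (EtCoh.top (Spec (CommRingCat.of k)))) : z = z' :=
  Fib.ext (((Category.comp_id _).symm.trans z.w).trans ((Category.comp_id _).symm.trans z'.w).symm)

theorem finite_fib : Finite (Fib ξ (fieldEt k M)) := by
  apply Nat.finite_of_card_ne_zero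
  rw [card_fib k M Ω ξ]
  exact Module.finrank_pos.ne'

theorem nonempty_fib : Nonempty (Fib ξ (fieldEt k M)) := by
  haveI := finite_fib k M ξ
  by_contra h
  rw [not_nonempty_iff] at h
  have h0 := card_fib k M Ω ξ
  rw [Nat.card_of_isEmpty] at h0
  exact Module.finrank_pos.ne h0

theorem orbit_bijective (v : Fib ξ (fieldEt k M)) :
    Function.Bijective fun g : M ≃ₐ[k] M => v.map (autMap k M g) := by
  haveI := finite_fib k M ξ
  refine (Nat.bijective_iff_surjective_and_card _).2 ⟨fun w => exists_aut k M v w, ?_⟩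
  rw [card_fib k M Ω ξ, IsGalois.card_aut_eq_finrank]

theorem exists_norm :
    ∃ N : free (EtCoh.top (Spec (CommRingCat.of k))) ⟶ free (fieldEt k M),
      ∀ (Ω : Type u) [Field Ω] [IsSepClosed Ω] (ξ : Spec (CommRingCat.of Ω) ⟶ Spec (CommRingCat.of k))
        (z : Fib ξ (EtCoh.top (Spec (CommRingCat.of k)))),
        (stk (A := AddCommGrpCat.{u + 1}) ξ).map N (e ξ _ z) = ∑ᶠ v : Fib ξ (fieldEt k M), e ξ _ v := by
  haveI := isFinite_toTop k M
  obtain ⟨t, ht⟩ := exists_trace (free (fieldEt k M)) (toTop k M) (gen (fieldEt k M))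
  refine ⟨desc _ t, fun Ω _ _ ξ z => ?_⟩
  rw [e, germ_natural_apply, desc_gen, ht]
  exact finsum_eq_of_bijective (fun o => o.1)
    ⟨Subtype.val_injective, fun v => ⟨⟨v, fib_top_eq k ξ _ _⟩, rfl⟩⟩ fun o => rfl

/-- The norm. -/
def nrm : free (EtCoh.top (Spec (CommRingCat.of k))) ⟶ free (fieldEt k M) := (exists_norm k M).choose

theorem nrm_e [Fintype (Fib ξ (fieldEt k M))] (z : Fib ξ (EtCoh.top (Spec (CommRingCat.of k)))) :
    (stk (A := AddCommGrpCat.{u + 1}) ξ).map (nrm k M) (e ξ _ z) = ∑ v : Fib ξ (fieldEt k M), e ξ _ v := by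
  rw [← finsum_eq_sum_of_fintype]
  exact (exists_norm k M).choose_spec Ω ξ z

theorem dif_e (σ : M ≃ₐ[k] M) (v : Fib ξ (fieldEt k M)) :
    (stk (A := AddCommGrpCat.{u + 1}) ξ).map (dif k M σ) (e ξ _ v) = e ξ _ (v.map (autMap k M σ)) - e ξ _ v := by
  rw [Functor.map_sub, CategoryTheory.Functor.map_id, ← map_e]
  rfl

theorem dif_apply (σ : M ≃ₐ[k] M) (p : PSt ξ (fieldEt k M)) :
    (stk (A := AddCommGrpCat.{u + 1}) ξ).map (dif k M σ) p =
      (stk (A := AddCommGrpCat.{u + 1}) ξ).map (freeMap (autMap k M σ)) p - p := by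
  rw [Functor.map_sub, CategoryTheory.Functor.map_id]
  rfl

theorem dif_eps (σ : M ≃ₐ[k] M) : dif k M σ ≫ eps k M = 0 := by
  rw [Preadditive.sub_comp, freeMap_comp, Category.id_comp,
    (EtCore.topIsTerminal _).hom_ext (autMap k M σ ≫ toTop k M) (toTop k M), sub_self]

theorem map_autMap_one (v : Fib ξ (fieldEt k M)) : v.map (autMap k M 1) = v := by
  refine Fib.ext ?_
  show v.hom ≫ Spec.map (CommRingCat.ofHom ((1 : M ≃ₐ[k] M) : M →ₐ[k] M).toRingHom) = v.hom
  rw [show CommRingCat.ofHom ((1 : M ≃ₐ[k] M) : M →ₐ[k] M).toRingHom = 𝟙 _ from rfl, Spec.map_id]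
  exact Category.comp_id _

theorem map_autMap_mul (σ τ : M ≃ₐ[k] M) (v : Fib ξ (fieldEt k M)) :
    (v.map (autMap k M σ)).map (autMap k M τ) = v.map (autMap k M (σ * τ)) := by
  rw [← autMap_mul]
  refine Fib.ext ?_
  rw [Fib.map_hom, Fib.map_hom, Fib.map_hom]
  exact Category.assoc _ _ _

theorem map_autMap_pow (σ : M ≃ₐ[k] M) (n : ℕ) (v : Fib ξ (fieldEt k M)) :
    v.map (autMap k M (σ ^ n)) = (fun w : Fib ξ (fieldEt k M) => w.map (autMap k M σ))^[n] v := by
  induction n with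
  | zero => rw [pow_zero, Function.iterate_zero_apply, map_autMap_one]
  | succ n ih => rw [pow_succ, Function.iterate_succ_apply', ← map_autMap_mul, ih]

theorem shift_bijective (σ : M ≃ₐ[k] M) :
    Function.Bijective (fun v : Fib ξ (fieldEt k M) => v.map (autMap k M σ)) := by
  haveI := finite_fib k M ξ
  refine Finite.surjective_iff_bijective.1 fun w => ⟨w.map (autMap k M σ⁻¹), ?_⟩
  exact (map_autMap_mul k M ξ σ⁻¹ σ w).trans (by rw [inv_mul_cancel, map_autMap_one])

theorem exists_iterate (σ : M ≃ₐ[k] M) (hσ : ∀ g : M ≃ₐ[k] M, g ∈ Subgroup.zpowers σ)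
    (v w : Fib ξ (fieldEt k M)) :
    ∃ n : ℕ, (fun u : Fib ξ (fieldEt k M) => u.map (autMap k M σ))^[n] v = w := by
  obtain ⟨g, hg⟩ := exists_aut k M v w
  obtain ⟨n, rfl⟩ := (Submonoid.mem_powers_iff g σ).1 (mem_powers_iff_mem_zpowers.2 (hσ g))
  exact ⟨n, (map_autMap_pow k M ξ σ n v).symm.trans hg⟩

theorem nrm_dif (σ : M ≃ₐ[k] M) : nrm k M ≫ dif k M σ = 0 := by
  refine stk_hom_ext' _ fun Ω _ _ ξ z => ?_
  haveI := finite_fib k M ξ
  haveI := Fintype.ofFinite (Fib ξ (fieldEt k M))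
  rw [Functor.map_comp, ConcreteCategory.comp_apply, nrm_e, map_sum, Functor.map_zero]
  refine (Finset.sum_congr rfl fun v _ => dif_e k M ξ σ v).trans ?_
  rw [Finset.sum_sub_distrib]
  exact (sub_eq_zero.2 ((Equiv.ofBijective _ (shift_bijective k M ξ σ)).sum_comp (e ξ (fieldEt k M)))).trans rfl

theorem map_sum_apply {P Q : EtCoh.Ab (Spec (CommRingCat.of k))} {ι : Type*} (s : Finset ι) (f : ι → (P ⟶ Q))
    (p : (stk (A := AddCommGrpCat.{u + 1}) ξ).obj P) :
    (stk (A := AddCommGrpCat.{u + 1}) ξ).map (∑ i ∈ s, f i) p =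
      ∑ i ∈ s, (stk (A := AddCommGrpCat.{u + 1}) ξ).map (f i) p := by
  classical
  induction s using Finset.induction_on with
  | empty => rw [Finset.sum_empty, Finset.sum_empty, Functor.map_zero]; rfl
  | insert a s ha ih =>
    rw [Finset.sum_insert ha, Finset.sum_insert ha, Functor.map_add, ← ih]
    rfl

theorem eps_nrm [Fintype (M ≃ₐ[k] M)] :
    eps k M ≫ nrm k M = ∑ g : M ≃ₐ[k] M, freeMap (autMap k M g) := by
  refine stk_hom_ext' _ fun Ω _ _ ξ v => ?_
  haveI := finite_fib k M ξ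
  haveI := Fintype.ofFinite (Fib ξ (fieldEt k M))
  rw [Functor.map_comp, ConcreteCategory.comp_apply, map_e, nrm_e, map_sum_apply,
    ← (Equiv.ofBijective _ (orbit_bijective k M ξ v)).sum_comp (e ξ (fieldEt k M))]
  exact Finset.sum_congr rfl fun g _ => (map_e ξ (fieldEt k M) (autMap k M g) v).symm

theorem epi_eps : Epi (eps k M) := by
  refine (epi_iff_stalks (A := AddCommGrpCat.{u + 1}) _).2 fun Ω _ _ ξ => ?_
  refine (AddCommGrpCat.epi_iff_surjective _).2 fun p => ?_
  obtain ⟨v⟩ := nonempty_fib k M ξ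
  haveI : Subsingleton (Fib ξ (EtCoh.top (Spec (CommRingCat.of k)))) := ⟨fib_top_eq k ξ⟩
  haveI : Fintype (Fib ξ (EtCoh.top (Spec (CommRingCat.of k)))) := Fintype.ofSubsingleton (v.map (toTop k M))
  refine ⟨coord ξ _ (v.map (toTop k M)) p • e ξ _ v, ?_⟩
  rw [map_zsmul, map_e]
  conv_rhs => rw [decomp ξ _ p]
  rw [Fintype.sum_subsingleton _ (v.map (toTop k M))]

/-- Exactness in the middle of `N` and `σ - 1`. -/
theorem exact_nrm_dif (σ : M ≃ₐ[k] M) (hσ : ∀ g : M ≃ₐ[k] M, g ∈ Subgroup.zpowers σ) :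
    (ShortComplex.mk (nrm k M) (dif k M σ) (nrm_dif k M σ)).Exact := by
  refine (exact_iff_stalks _).2 fun Ω _ _ ξ => ?_
  refine (ShortComplex.ab_exact_iff _).2 fun p hp => ?_
  haveI := finite_fib k M ξ
  haveI := Fintype.ofFinite (Fib ξ (fieldEt k M))
  obtain ⟨v₀⟩ := nonempty_fib k M ξ
  have h : p = coord ξ (fieldEt k M) v₀ p • ∑ v, e ξ (fieldEt k M) v :=
    Perm.fixed_eq ((stk (A := AddCommGrpCat.{u + 1}) ξ).map (freeMap (autMap k M σ))).hom (e ξ (fieldEt k M))
      (coord ξ (fieldEt k M)) (coord_self ξ _) (fun v w h => coord_ne ξ _ h) (decomp ξ _)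
      (fun v => v.map (autMap k M σ)) (shift_bijective k M ξ σ).1 (fun v => map_e ξ _ _ v)
      v₀ (exists_iterate k M ξ σ hσ v₀) p ((dif_apply k M ξ σ p).symm.trans hp)
  refine ⟨coord ξ (fieldEt k M) v₀ p • e ξ _ (v₀.map (toTop k M)), ?_⟩
  exact (map_zsmul _ _ _).trans ((congrArg _ (nrm_e k M ξ _)).trans h.symm)

/-- Exactness in the middle of `σ - 1` and the augmentation. -/
theorem exact_dif_eps (σ : M ≃ₐ[k] M) (hσ : ∀ g : M ≃ₐ[k] M, g ∈ Subgroup.zpowers σ) :
    (ShortComplex.mk (dif k M σ) (eps k M) (dif_eps k M σ)).Exact := by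
  refine (exact_iff_stalks _).2 fun Ω _ _ ξ => ?_
  refine (ShortComplex.ab_exact_iff _).2 fun p hp => ?_
  haveI := finite_fib k M ξ
  haveI := Fintype.ofFinite (Fib ξ (fieldEt k M))
  obtain ⟨v₀⟩ := nonempty_fib k M ξ
  let z : Fib ξ (EtCoh.top (Spec (CommRingCat.of k))) := v₀.map (toTop k M)
  have hsum : ∑ v, coord ξ (fieldEt k M) v p = 0 := by
    refine Perm.sum_coord_eq_zero (e ξ (fieldEt k M))
      (coord ξ (fieldEt k M)) (decomp ξ _) ((stk (A := AddCommGrpCat.{u + 1}) ξ).map (eps k M)).hom (e ξ _ z) (fun v => ?_) (coord ξ _ z) (coord_self ξ _ z) p hp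
    exact (map_e ξ _ _ v).trans (congrArg _ (fib_top_eq k ξ _ _))
  obtain ⟨q, hq⟩ := Perm.exists_sub_eq ((stk (A := AddCommGrpCat.{u + 1}) ξ).map (freeMap (autMap k M σ))).hom
    (e ξ (fieldEt k M)) (coord ξ (fieldEt k M)) (decomp ξ _)
    (fun v => v.map (autMap k M σ)) (fun v => map_e ξ _ _ v) v₀ (exists_iterate k M ξ σ hσ v₀) p hsum
  exact ⟨q, (dif_apply k M ξ σ q).trans hq⟩

theorem mono_nrm : Mono (nrm k M) := by
  refine (ShortComplex.exact_iff_mono (ShortComplex.mk (0 : free (EtCoh.top (Spec (CommRingCat.of k))) ⟶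
    free (EtCoh.top (Spec (CommRingCat.of k)))) (nrm k M) zero_comp) rfl).1 ?_
  refine (exact_iff_stalks _).2 fun Ω _ _ ξ => ?_
  refine (ShortComplex.ab_exact_iff _).2 fun p hp => ⟨0, ?_⟩
  haveI := finite_fib k M ξ
  haveI := Fintype.ofFinite (Fib ξ (fieldEt k M))
  obtain ⟨v₀⟩ := nonempty_fib k M ξ
  haveI : Subsingleton (Fib ξ (EtCoh.top (Spec (CommRingCat.of k)))) := ⟨fib_top_eq k ξ⟩
  haveI : Fintype (Fib ξ (EtCoh.top (Spec (CommRingCat.of k)))) := Fintype.ofSubsingleton (v₀.map (toTop k M))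
  rw [map_zero]
  exact (Perm.eq_zero_of_map_eq_zero ((stk (A := AddCommGrpCat.{u + 1}) ξ).map (nrm k M)).hom
    (e ξ _ (v₀.map (toTop k M))) (coord ξ _ (v₀.map (toTop k M)))
    (fun q => (decomp ξ _ q).trans (Fintype.sum_subsingleton _ _))
    (coord ξ (fieldEt k M) v₀) (by
      rw [show ((stk (A := AddCommGrpCat.{u + 1}) ξ).map (nrm k M)).hom (e ξ _ (v₀.map (toTop k M))) = _
        from nrm_e k M ξ _]
      exact Perm.coord_sum (e ξ (fieldEt k M)) (coord ξ (fieldEt k M)) (coord_self ξ _)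
        (fun v w h => coord_ne ξ _ h) v₀) p hp).symm

/-- A class in degree `n + 2` killed by a cyclic extension comes from degree `n`, modulo the norms. -/
theorem eq_zero_of_cyclic_kill (σ : M ≃ₐ[k] M) (hσ : ∀ g : M ≃ₐ[k] M, g ∈ Subgroup.zpowers σ)
    {G : EtCoh.Ab (Spec (CommRingCat.of k))} {n : ℕ}
    (hM : ∀ a : Ext.{u + 1} (free (fieldEt k M)) G (n + 1), a = 0)
    (hk : ∀ b : Ext.{u + 1} (free (EtCoh.top (Spec (CommRingCat.of k)))) G n,
      ∃ b' : Ext.{u + 1} (free (fieldEt k M)) G n, (Ext.mk₀ (nrm k M)).comp b' (zero_add n) = b)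
    (y : Ext.{u + 1} (free (EtCoh.top (Spec (CommRingCat.of k)))) G (n + 2))
    (hy : (Ext.mk₀ (eps k M)).comp y (zero_add (n + 2)) = 0) : y = 0 := by
  haveI := epi_eps k M
  let S₁ := ShortComplex.mk (kernel.ι (eps k M)) (eps k M) (kernel.condition _)
  have hS₁ : S₁.ShortExact :=
    { exact := ShortComplex.exact_of_f_is_kernel _ (kernelIsKernel _) }
  let D : free (fieldEt k M) ⟶ S₁.X₁ := kernel.lift _ (dif k M σ) (dif_eps k M σ)
  haveI : Epi D := (ShortComplex.exact_iff_epi_kernel_lift _).1 (exact_dif_eps k M σ hσ)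
  haveI := mono_nrm k M
  have hS₂' : (ShortComplex.mk (nrm k M) D (by
      rw [← cancel_mono (kernel.ι (eps k M)), Category.assoc, kernel.lift_ι, nrm_dif, zero_comp])).ShortExact :=
    { exact := by
        refine (ShortComplex.exact_iff_of_epi_of_isIso_of_mono
          (S₁ := ShortComplex.mk (nrm k M) D _) (S₂ := ShortComplex.mk (nrm k M) (dif k M σ) (nrm_dif k M σ))
          { τ₁ := 𝟙 _, τ₂ := 𝟙 _, τ₃ := kernel.ι (eps k M),
            comm₂₃ := (Category.id_comp _).trans (kernel.lift_ι (eps k M) (dif k M σ) (dif_eps k M σ)).symm }).2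
          (exact_nrm_dif k M σ hσ) }
  obtain ⟨a, ha⟩ := Ext.contravariant_sequence_exact₃ hS₁ G y hy (n₀ := n + 1) (by omega)
  obtain ⟨b, hb⟩ := Ext.contravariant_sequence_exact₃ hS₂' G a (hM _) (n₀ := n) (by omega)
  obtain ⟨b', hb'⟩ := hk b
  have hab : a = 0 := by
    rw [← hb, ← hb', ← Ext.comp_assoc_of_second_deg_zero, hS₂'.extClass_comp, Ext.zero_comp]
  rw [← ha, hab, Ext.comp_zero]

end EtBrLib

end
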